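import Cfsg.Agent.H439.CC.Row
import Cfsg.Agent.H749.PF.Inst
import Cfsg.Agent.H493.CC.Gen
import Cfsg.Agent.H493.CC.AmbB
import Cfsg.Agent.H116.HeckeU.Cmp
import Cfsg.Agent.H215.WB.WFin

/-!
# S4884, cross characteristic: the uniform assembly for the frames of type `C_n` (`PSp`, `PSU`, `PΩ` of odd dimension and
of minus type)

`rowReal_model` : `RowReal q K` for a model `K` of a Witt frame with `n` hyperbolic pairs, from `QElt`.
-/

set_option autoImplicit false

namespace Cfsg.Agent.H234.CC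

open Cfsg Cfsg.Agent.ChevalleyStructure.CoxeterGeom Cfsg.Agent.Tits.Roots Cfsg.Agent.Nodes.Reps Cfsg.Agent.Nodes.BNOf
  Cfsg.Agent.Nodes.RGDLib Cfsg.Agent.Nodes.LeviDec
open Cfsg.Agent.Nodes.WittAll Cfsg.Agent.TitsThree Cfsg.Agent.TitsThree.Siegel Cfsg.Agent.TitsThree.WittFrame
  Cfsg.Agent.TitsThree.FrameCN Cfsg.Agent.Nodes.TypeC
open Cfsg.Agent.Nodes
open Cfsg.Agent.H439.CC Cfsg.Agent.H706.PB Cfsg.Agent.H749.PF

universe u

variable {F V : Type u} [Field F] [Finite F] [AddCommGroup V] [Module F V] {H : HForm F V} {n : ℕ}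
  {Fr : Frame H (Fin n)} {K : Type u} [Group K] (M : Model Fr K)

/-- **the uniform assembly for the frames of type `C_n`** -/
theorem rowReal_model' (hE2 : E2.{u, u}) (hN : H215.WB.NewtonS n) [Finite V] {p : ℕ} [Fact p.Prime] [CharP F p]
    (hp2 : p ≠ 2) (hA : AmbT Fr p M.I) {p0 : Fr.Adm} (hp0 : p0.c ≠ 0) (hn : 0 < n)
    (Sg : Sing Fr) (hS : ∀ v, H.h v v = 0 → Sg.S v) {q : ℕ} [Fact q.Prime] (hq2 : q ≠ 2)
    (hQ : QElt (TI H) M.I.subtype q n) : RowReal q K := by
  classical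
  have : Module.Finite F V := Module.Finite.of_finite
  have : Finite (V ≃ₗ[F] V) := Finite.of_injective (fun g : V ≃ₗ[F] V => (g : V → V)) DFunLike.coe_injective
  have : Finite K := Finite.of_surjective M.φ (model_surjective M hn)
  have : Finite (CoxeterMatrix.B n).Group := finite_W (CoxeterMatrix.B n).toCoxeterSystem
  have R := rgdC_model M hA hp0 (CoxeterMatrix.B n).toCoxeterSystem
  have hgen := H493.CC.hgen_C M hA hp0 hn (CoxeterMatrix.B n).toCoxeterSystem
  refine rowReal_of_pieces' hE2 hp2 R hgen (H493.CC.real_B (CoxeterMatrix.B n).toCoxeterSystem)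
    (H116.HeckeU.cmp_of_rgd R hgen) n hn JB (H215.WB.wside_B_of (CoxeterMatrix.B n).toCoxeterSystem hN) hq2 ?_
    (flags_model M hA hp0 (CoxeterMatrix.B n).toCoxeterSystem hn Sg hS) hQ
  rw [Fintype.card_unit]
  exact (Fact.out : q.Prime).not_dvd_one

/-- **the uniform assembly for the frames of type `C_n`**, final form -/
theorem rowReal_model [Finite V] {p : ℕ} [Fact p.Prime] [CharP F p]
    (hp2 : p ≠ 2) (hA : AmbT Fr p M.I) {p0 : Fr.Adm} (hp0 : p0.c ≠ 0) (hn : 0 < n)
    (Sg : Sing Fr) (hS : ∀ v, H.h v v = 0 → Sg.S v) {q : ℕ} [Fact q.Prime] (hq2 : q ≠ 2)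
    (hQ : QElt (TI H) M.I.subtype q n) : RowReal q K := by
  classical
  have : Module.Finite F V := Module.Finite.of_finite
  have : Finite (V ≃ₗ[F] V) := Finite.of_injective (fun g : V ≃ₗ[F] V => (g : V → V)) DFunLike.coe_injective
  have : Finite K := Finite.of_surjective M.φ (model_surjective M hn)
  have : Finite (CoxeterMatrix.B n).Group := finite_W (CoxeterMatrix.B n).toCoxeterSystem
  have R := rgdC_model M hA hp0 (CoxeterMatrix.B n).toCoxeterSystem
  have hgen := H493.CC.hgen_C M hA hp0 hn (CoxeterMatrix.B n).toCoxeterSystem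
  refine rowReal_of_rgd hp2 R hgen (H493.CC.real_B (CoxeterMatrix.B n).toCoxeterSystem)
    n hn JB (H215.WB.wside_B (CoxeterMatrix.B n).toCoxeterSystem) hq2 ?_
    (flags_model M hA hp0 (CoxeterMatrix.B n).toCoxeterSystem hn Sg hS) hQ
  rw [Fintype.card_unit]
  exact (Fact.out : q.Prime).not_dvd_one

end Cfsg.Agent.H234.CC
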